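import Cfsg.Agent.Lib.Element
import Cfsg.Agent.ClassCount.SemiRegular
import Mathlib.GroupTheory.Sylow

/-!
The abelian TI subgroups attached to groups with two `p`-regular class sizes.
-/

set_option autoImplicit false
set_option linter.style.haveILetI false
set_option linter.unusedSectionVars false

namespace Cfsg.Agent.TwoRegSizes

open Subgroup

variable {G : Type*} [Group G]

/-- A commutative subgroup as a commutative group. -/
scoped instance commGroupOfIsMulCommutative (A : Subgroup G) [IsMulCommutative A] : CommGroup A :=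
  { (inferInstance : Group A) with mul_comm := IsMulCommutative.is_comm.comm }

variable [Finite G] {p : ℕ}

/-- `t` is a prime other than `p` with a `t`-element outside `Z`. -/
def NC (p : ℕ) (Z : Subgroup G) (t : ℕ) : Prop :=
  t.Prime ∧ t ≠ p ∧ ∃ x : G, (∃ k, x ^ t ^ k = 1) ∧ x ∉ Z

theorem coprime_of_pow {t k : ℕ} (hp : p.Prime) (ht : t.Prime) (hne : t ≠ p) {x : G}
    (h : x ^ t ^ k = 1) : (orderOf x).Coprime p :=
  (((Nat.coprime_primes ht hp).2 hne).pow_left k).coprime_dvd_left (orderOf_dvd_of_pow_eq_one h)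

theorem exists_pow_of_mem_sylow {t : ℕ} (T : Sylow t G) {x : G} (hx : x ∈ (T : Subgroup G)) :
    ∃ k, x ^ t ^ k = 1 := by
  obtain ⟨k, hk⟩ := T.2 ⟨x, hx⟩
  exact ⟨k, congrArg Subtype.val hk⟩

/-- The subgroup generated by the `t`-elements of `B`. -/
def tPart (t : ℕ) (B : Subgroup G) : Subgroup G :=
  Subgroup.closure {y | y ∈ B ∧ ∃ k, y ^ t ^ k = 1}

theorem tPart_le (t : ℕ) (B : Subgroup G) : tPart t B ≤ B :=
  (Subgroup.closure_le _).2 fun _ hy => hy.1

theorem mem_tPart_of_pow {t k : ℕ} {B : Subgroup G} {y : G} (hy : y ∈ B) (h : y ^ t ^ k = 1) :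
    y ∈ tPart t B := Subgroup.subset_closure ⟨hy, k, h⟩

theorem exists_pow_of_mem_tPart {t : ℕ} {B : Subgroup G} (hB : ∀ a ∈ B, ∀ b ∈ B, Commute a b) {y : G}
    (hy : y ∈ tPart t B) : ∃ k, y ^ t ^ k = 1 := by
  refine (Subgroup.closure_induction (p := fun z _ => z ∈ B ∧ ∃ k, z ^ t ^ k = 1) ?_ ?_ ?_ ?_ hy).2
  · exact fun z hz => hz
  · exact ⟨one_mem B, 0, one_pow _⟩
  · rintro a b - - ⟨ha, i, hi⟩ ⟨hb, j, hj⟩
    refine ⟨mul_mem ha hb, i + j, ?_⟩
    rw [(hB a ha b hb).mul_pow, pow_add, pow_mul, hi, one_pow, mul_comm (t ^ i), pow_mul, hj, one_pow, one_mul]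
  · rintro a - ⟨ha, i, hi⟩
    exact ⟨inv_mem ha, i, by rw [inv_pow, hi, inv_one]⟩

theorem isPGroup_tPart {t : ℕ} {B : Subgroup G} (hB : ∀ a ∈ B, ∀ b ∈ B, Commute a b) :
    IsPGroup t (tPart t B) := fun y => by
  obtain ⟨k, hk⟩ := exists_pow_of_mem_tPart hB y.2
  exact ⟨k, Subtype.ext hk⟩

theorem card_tPart {t : ℕ} [Fact t.Prime] {B : Subgroup G} (hB : ∀ a ∈ B, ∀ b ∈ B, Commute a b) :
    Nat.card (tPart t B) = t ^ (Nat.card B).factorization t := by
  obtain ⟨j, hj⟩ := IsPGroup.iff_card.1 (isPGroup_tPart (t := t) hB)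
  obtain ⟨R⟩ : Nonempty (Sylow t B) := inferInstance
  have h1 : t ^ (Nat.card B).factorization t ∣ Nat.card (tPart t B) := by
    rw [← R.card_eq_multiplicity, ← card_map_of_injective B.subtype_injective]
    refine card_dvd_of_le ?_
    rintro _ ⟨y, hy, rfl⟩
    obtain ⟨k, hk⟩ := R.2 ⟨y, hy⟩
    exact mem_tPart_of_pow y.2 (show (y : G) ^ t ^ k = 1 from congrArg (fun w : R => ((w : B) : G)) hk)
  refine Nat.dvd_antisymm ?_ h1
  rw [hj]
  exact Nat.pow_dvd_pow t (((Fact.out : t.Prime).pow_dvd_iff_le_factorization Nat.card_pos.ne').1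
    (hj ▸ card_dvd_of_le (tPart_le t B)))

/-- The axioms: `S` is a family of abelian `p'`-subgroups, `Z` central. -/
structure Hyp (p : ℕ) (Z : Subgroup G) (S : Set (Subgroup G)) : Prop where
  prime : p.Prime
  central : Z ≤ center G
  comm : ∀ A ∈ S, ∀ a ∈ A, ∀ b ∈ A, Commute a b
  coprime : ∀ A ∈ S, ∀ a ∈ A, (orderOf a).Coprime p
  Z_le : ∀ A ∈ S, Z ≤ A
  card_eq : ∀ A ∈ S, ∀ B ∈ S, Nat.card A = Nat.card B
  cover : ∀ g : G, (orderOf g).Coprime p → ∃ A ∈ S, g ∈ A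
  cent : ∀ A ∈ S, ∀ x ∈ A, x ∉ Z → ∀ y, Commute y x → ∀ a ∈ A, Commute y a
  max : ∀ A ∈ S, ∀ x ∈ A, x ∉ Z → ∀ y, (orderOf y).Coprime p → Commute y x → y ∈ A
  two : ∀ q, ∃ t, t ≠ q ∧ NC p Z t

variable {Z : Subgroup G} {S : Set (Subgroup G)}

theorem Hyp.comm_Z (H : Hyp p Z S) : ∀ a ∈ Z, ∀ b ∈ Z, Commute a b :=
  fun a _ b hb => mem_center_iff.1 (H.central hb) a

theorem Hyp.coprime_card (H : Hyp p Z S) {A : Subgroup G} (hA : A ∈ S) : ¬ p ∣ Nat.card A := by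
  haveI := Fact.mk H.prime
  intro hd
  obtain ⟨a, ha⟩ := exists_prime_orderOf_dvd_card' (G := A) p hd
  have := H.coprime A hA a a.2
  rw [orderOf_coe, ha, Nat.coprime_self] at this
  exact H.prime.ne_one this

theorem Hyp.eq_of_mem (H : Hyp p Z S) {A B : Subgroup G} (hA : A ∈ S) (hB : B ∈ S) {x : G}
    (hxA : x ∈ A) (hxB : x ∈ B) (hx : x ∉ Z) : A = B :=
  le_antisymm (fun a ha => H.max B hB x hxB hx a (H.coprime A hA a ha) (H.comm A hA a ha x hxA))
    fun b hb => H.max A hA x hxA hx b (H.coprime B hB b hb) (H.comm B hB b hb x hxB)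

theorem Hyp.exists_notMem (H : Hyp p Z S) {A : Subgroup G} (hA : A ∈ S) : ∃ a ∈ A, a ∉ Z := by
  by_contra! hall
  obtain ⟨t, -, ht, htp, x, ⟨k, hk⟩, hxZ⟩ := H.two 0
  obtain ⟨B, hB, hxB⟩ := H.cover x (coprime_of_pow H.prime ht htp hk)
  exact hxZ ((eq_of_le_of_card_ge (H.Z_le B hB) ((H.card_eq B hB A hA).le.trans (card_le_of_le hall))).ge hxB)

theorem Hyp.exists_conj (H : Hyp p Z S) {A : Subgroup G} (hA : A ∈ S) (g : G) :
    ∃ B ∈ S, A.map (MulAut.conj g).toMonoidHom = B := by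
  obtain ⟨x, hx, hxZ⟩ := H.exists_notMem hA
  have ho : ∀ a : G, orderOf (g * a * g⁻¹) = orderOf a := fun a => by
    rw [show g * a * g⁻¹ = MulAut.conj g a from rfl, MulEquiv.orderOf_eq]
  obtain ⟨B, hB, hxB⟩ := H.cover (g * x * g⁻¹) (by rw [ho]; exact H.coprime A hA x hx)
  have hxZ' : g * x * g⁻¹ ∉ Z := fun h => hxZ (by
    have e : g * x * g⁻¹ = x := by
      have h1 := mem_center_iff.1 (H.central h) g
      calc g * x * g⁻¹ = g⁻¹ * (g * (g * x * g⁻¹)) := by group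
        _ = g⁻¹ * ((g * x * g⁻¹) * g) := by rw [h1]
        _ = x := by group
    exact e ▸ h)
  refine ⟨B, hB, eq_of_le_of_card_ge ?_ ?_⟩
  · rintro _ ⟨a, ha, rfl⟩
    refine H.max B hB _ hxB hxZ' _ ?_ ?_
    · show (orderOf (g * a * g⁻¹)).Coprime p
      rw [ho]; exact H.coprime A hA a ha
    · exact (H.comm A hA a ha x hx).map (MulAut.conj g).toMonoidHom
  · rw [card_map_of_injective (f := (MulAut.conj g).toMonoidHom) (MulAut.conj g).injective, H.card_eq B hB A hA]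

theorem Hyp.factorization_eq (H : Hyp p Z S) {A B : Subgroup G} (hA : A ∈ S) (hB : B ∈ S) (t : ℕ) :
    (Nat.card A).factorization t = (Nat.card B).factorization t := by rw [H.card_eq A hA B hB]

theorem Hyp.hasPart (H : Hyp p Z S) {A : Subgroup G} (hA : A ∈ S) {t : ℕ} (ht : NC p Z t) :
    ∃ a ∈ A, a ∉ Z ∧ a ^ t ∈ Z ∧ ∃ k, a ^ t ^ k = 1 := by
  obtain ⟨ht, htp, x, ⟨k, hk⟩, hxZ⟩ := ht
  haveI := Fact.mk ht
  obtain ⟨B, hB, hxB⟩ := H.cover x (coprime_of_pow H.prime ht htp hk)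
  obtain ⟨a, haA, ⟨i, hi⟩, haZ⟩ : ∃ a ∈ A, (∃ i, a ^ t ^ i = 1) ∧ a ∉ Z := by
    by_contra! hall
    have h1 : tPart t A ≤ tPart t Z := (Subgroup.closure_le _).2 fun y hy => by
      obtain ⟨i, hi⟩ := hy.2
      exact mem_tPart_of_pow (hall y hy.1 hy.2) hi
    have h2 : tPart t Z ≤ tPart t B := Subgroup.closure_mono fun y hy => ⟨H.Z_le B hB hy.1, hy.2⟩
    have h3 : tPart t Z = tPart t B := eq_of_le_of_card_ge h2 (by
      rw [card_tPart (H.comm B hB), ← H.factorization_eq hA hB, ← card_tPart (H.comm A hA)]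
      exact card_le_of_le h1)
    exact hxZ (tPart_le t Z (h3 ▸ mem_tPart_of_pow hxB hk))
  induction i generalizing a with
  | zero => rw [pow_zero, pow_one] at hi; exact absurd (hi ▸ one_mem Z) haZ
  | succ i ih =>
    by_cases hat : a ^ t ∈ Z
    · exact ⟨a, haA, haZ, hat, _, hi⟩
    · exact ih (a ^ t) (pow_mem haA t) hat (by rw [← pow_mul, ← pow_succ']; exact hi)

/-- The Sylow subgroup `T` normalises `A` and fixes an element of it modulo `Z`. -/
def Normed (Z : Subgroup G) {t : ℕ} (A : Subgroup G) (T : Sylow t G) : Prop :=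
  (T : Subgroup G) ≤ normalizer (A : Set G) ∧
    ∃ x ∈ A, x ∈ (T : Subgroup G) ∧ x ∉ Z ∧ x ^ t ∈ Z ∧ ∀ g ∈ (T : Subgroup G), g * x * g⁻¹ * x⁻¹ ∈ Z

theorem Hyp.exists_normed (H : Hyp p Z S) {t : ℕ} [Fact t.Prime] (ht : NC p Z t) (T : Sylow t G) :
    ∃ A ∈ S, Normed Z A T := by
  set N := Z.subgroupOf (T : Subgroup G) with hN
  haveI : N.Normal := ⟨fun n hn g => by
    rw [mem_subgroupOf] at hn ⊢
    push_cast
    rw [mem_center_iff.1 (H.central hn) g, mul_inv_cancel_right]; exact hn⟩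
  obtain ⟨ht, htp, w, ⟨k, hk⟩, hwZ⟩ := ht
  haveI : Nontrivial ((T : Subgroup G) ⧸ N) := by
    rw [QuotientGroup.nontrivial_iff]
    intro htop
    obtain ⟨R, hR⟩ := (IsPGroup.of_card_dvd_pow (n := k) (by
      rw [Nat.card_zpowers]; exact orderOf_dvd_of_pow_eq_one hk) : IsPGroup t (zpowers w)).exists_le_sylow
    obtain ⟨g, rfl⟩ := MulAction.exists_smul_eq G T R
    have hwR := hR (mem_zpowers w)
    rw [Sylow.coe_subgroup_smul] at hwR
    obtain ⟨y, hy, rfl⟩ := hwR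
    have hyZ : y ∈ Z := (subgroupOf_eq_top.1 htop) hy
    refine hwZ ?_
    show g * y * g⁻¹ ∈ Z
    rwa [mem_center_iff.1 (H.central hyZ) g, mul_inv_cancel_right]
  have hQ : IsPGroup t ((T : Subgroup G) ⧸ N) := T.2.to_quotient N
  haveI := hQ.center_nontrivial
  obtain ⟨⟨c, hc⟩, hco⟩ := exists_prime_orderOf_dvd_card' (G := center ((T : Subgroup G) ⧸ N)) t (by
    obtain ⟨j, hj⟩ := IsPGroup.iff_card.mp (hQ.to_subgroup (center _))
    rw [hj]
    refine dvd_pow_self t ?_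
    rintro rfl
    exact (Finite.one_lt_card (α := center ((T : Subgroup G) ⧸ N))).ne' (by rw [hj, pow_zero]))
  rw [Subgroup.orderOf_mk] at hco
  obtain ⟨⟨x, hxT⟩, rfl⟩ := QuotientGroup.mk'_surjective N c
  have hxZ : x ∉ Z := fun h => by
    rw [show QuotientGroup.mk' N ⟨x, hxT⟩ = 1 from (QuotientGroup.eq_one_iff _).2 h, orderOf_one] at hco
    exact ht.ne_one hco.symm
  have hxt : x ^ t ∈ Z := (QuotientGroup.eq_one_iff (N := N) (⟨x, hxT⟩ ^ t : (T : Subgroup G))).1 (by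
    have h1 := pow_orderOf_eq_one (QuotientGroup.mk' N (⟨x, hxT⟩ : (T : Subgroup G)))
    rw [hco, ← map_pow] at h1
    exact h1)
  have hcomm : ∀ g ∈ (T : Subgroup G), g * x * g⁻¹ * x⁻¹ ∈ Z := fun g hg =>
    (QuotientGroup.eq_one_iff (N := N) ((⟨g, hg⟩ * ⟨x, hxT⟩ * ⟨g, hg⟩⁻¹ * ⟨x, hxT⟩⁻¹ : (T : Subgroup G)))).1 (by
      show QuotientGroup.mk' N (⟨g, hg⟩ * ⟨x, hxT⟩ * ⟨g, hg⟩⁻¹ * ⟨x, hxT⟩⁻¹) = 1
      rw [map_mul, map_mul, map_mul, map_inv, map_inv,
        mem_center_iff.1 hc (QuotientGroup.mk' N ⟨g, hg⟩), mul_inv_cancel_right, mul_inv_cancel])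
  obtain ⟨j, hj⟩ := exists_pow_of_mem_sylow T hxT
  obtain ⟨A, hA, hxA⟩ := H.cover x (coprime_of_pow H.prime ht htp hj)
  refine ⟨A, hA, fun g hg => ?_, x, hxA, hxT, hxZ, hxt, hcomm⟩
  have hgx : g * x * g⁻¹ ∈ A := by
    have h := mul_mem (H.Z_le A hA (hcomm g hg)) hxA
    rwa [inv_mul_cancel_right] at h
  obtain ⟨B, hB, hAB⟩ := H.exists_conj hA g
  have hgxZ : g * x * g⁻¹ ∉ Z := fun h => hxZ (by
    have := mul_mem (inv_mem (hcomm g hg)) h
    simpa [mul_assoc] using this)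
  have hBA : B = A := H.eq_of_mem hB hA (hAB ▸ ⟨x, hxA, rfl⟩) hgx hgxZ
  rw [mem_normalizer_iff_map_conj_eq, ← hBA]
  exact hBA.symm ▸ hAB

theorem normalizerMonoidHom_eq_one {A : Subgroup G} (g : normalizer (A : Set G)) :
    A.normalizerMonoidHom g = 1 ↔ ∀ a ∈ A, Commute (g : G) a := by
  constructor
  · intro h a ha
    have h1 : (g : G) * a * (g : G)⁻¹ = a :=
      congrArg (fun e : MulAut A => ((e ⟨a, ha⟩ : A) : G)) h
    exact mul_inv_eq_iff_eq_mul.1 h1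
  · intro h
    refine MulEquiv.ext fun a => Subtype.ext ?_
    show (g : G) * a * (g : G)⁻¹ = a
    rw [(h a a.2).eq, mul_inv_cancel_right]

theorem Hyp.semiregular (H : Hyp p Z S) {A : Subgroup G} (hA : A ∈ S) [IsMulCommutative A] :
    ClassCount.Semiregular (Z.subgroupOf A) A.normalizerMonoidHom.range where
  fix := by
    rintro _ ⟨g, rfl⟩ z hz
    refine Subtype.ext ?_
    show (g : G) * z * (g : G)⁻¹ = z
    have hz' : (z : G) ∈ center G := H.central hz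
    rw [mem_center_iff.1 hz' g, mul_inv_cancel_right]
  free := by
    rintro _ ⟨g, rfl⟩ a ha h
    refine (normalizerMonoidHom_eq_one g).2 fun b hb => H.cent A hA a a.2 ha g ?_ b hb
    exact mul_inv_eq_iff_eq_mul.1 (congrArg Subtype.val h)

theorem Hyp.hasPart' (H : Hyp p Z S) {A : Subgroup G} (hA : A ∈ S) [IsMulCommutative A] {t : ℕ}
    (ht : NC p Z t) : ClassCount.HasPart (Z.subgroupOf A) t := by
  obtain ⟨a, ha, haZ, -, k, hk⟩ := H.hasPart hA ht
  exact ⟨⟨a, ha⟩, haZ, k, Subtype.ext hk⟩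

theorem Hyp.image_pow (H : Hyp p Z S) {A : Subgroup G} (hA : A ∈ S) {t : ℕ} (T : Sylow t G)
    (hn : Normed Z A T) (u : normalizer (A : Set G)) (hu : (u : G) ∈ (T : Subgroup G)) :
    A.normalizerMonoidHom u ^ t = 1 := by
  obtain ⟨-, x, hxA, -, hxZ, hxt, hcomm⟩ := hn
  rw [← map_pow]
  refine (normalizerMonoidHom_eq_one _).2 (H.cent A hA x hxA hxZ _ ?_)
  obtain ⟨z, hzZ, e⟩ : ∃ z ∈ Z, (u : G) * x * (u : G)⁻¹ = z * x :=
    ⟨_, hcomm u hu, (inv_mul_cancel_right _ _).symm⟩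
  have hzc := mem_center_iff.1 (H.central hzZ)
  have hfix : ∀ n : ℕ, (u : G) ^ n * x * ((u : G) ^ n)⁻¹ = z ^ n * x := by
    intro n
    induction n with
    | zero => simp
    | succ n ih =>
      calc (u : G) ^ (n + 1) * x * ((u : G) ^ (n + 1))⁻¹
          = (u : G) * ((u : G) ^ n * x * ((u : G) ^ n)⁻¹) * (u : G)⁻¹ := by rw [pow_succ']; group
        _ = (u : G) * (z ^ n * x) * (u : G)⁻¹ := by rw [ih]
        _ = z ^ n * ((u : G) * x * (u : G)⁻¹) := by
            rw [← mul_assoc, ((show Commute (u : G) z from hzc _).pow_right n).eq]; group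
        _ = z ^ (n + 1) * x := by rw [e, pow_succ, mul_assoc]
  have hzt : z ^ t = 1 := by
    have h1 : ((u : G) * x * (u : G)⁻¹) ^ t = x ^ t := by
      rw [conj_pow, mem_center_iff.1 (H.central hxt) (u : G), mul_inv_cancel_right]
    rw [e, (show Commute z x from (hzc x).symm).mul_pow, mul_eq_right] at h1
    exact h1
  have := hfix t
  rw [hzt, one_mul] at this
  rw [SubgroupClass.coe_pow]
  exact mul_inv_eq_iff_eq_mul.1 this

/-- The image of a normed Sylow subgroup in the automorphisms is small. -/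
theorem Hyp.image_small (H : Hyp p Z S) {A : Subgroup G} (hA : A ∈ S) {t : ℕ} [Fact t.Prime]
    (T : Sylow t G) (hn : Normed Z A T) (g h : normalizer (A : Set G))
    (hg : (g : G) ∈ (T : Subgroup G)) (hh : (h : G) ∈ (T : Subgroup G))
    (hh1 : A.normalizerMonoidHom h ≠ 1) :
    A.normalizerMonoidHom g ∈ zpowers (A.normalizerMonoidHom h) := by
  haveI : IsMulCommutative A := ⟨⟨fun a b => Subtype.ext (H.comm A hA a a.2 b b.2).eq⟩⟩
  have hnn := hn
  obtain ⟨-, x, hxA, -, hxZ, hxt, hcomm⟩ := hn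
  obtain ⟨r, hrt, hr⟩ := H.two t
  have hone : ∀ u : normalizer (A : Set G), Commute (u : G) x → A.normalizerMonoidHom u = 1 := fun u hu =>
    (normalizerMonoidHom_eq_one u).2 (H.cent A hA x hxA hxZ u hu)
  have hexp := H.image_pow hA T hnn
  have hcom : Commute (A.normalizerMonoidHom g) (A.normalizerMonoidHom h) := by
    show _ * _ = _ * _
    rw [← map_mul, ← map_mul]
    obtain ⟨z₁, hz₁, e₁⟩ : ∃ z ∈ Z, (g : G) * x * (g : G)⁻¹ = z * x :=
      ⟨_, hcomm g hg, (inv_mul_cancel_right _ _).symm⟩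
    obtain ⟨z₂, hz₂, e₂⟩ : ∃ z ∈ Z, (h : G) * x * (h : G)⁻¹ = z * x :=
      ⟨_, hcomm h hh, (inv_mul_cancel_right _ _).symm⟩
    have c₁ := mem_center_iff.1 (H.central hz₁)
    have c₂ := mem_center_iff.1 (H.central hz₂)
    have k₁ : ((g : G) * h) * x * ((g : G) * h)⁻¹ = z₂ * z₁ * x := by
      calc ((g : G) * h) * x * ((g : G) * h)⁻¹ = (g : G) * ((h : G) * x * (h : G)⁻¹) * (g : G)⁻¹ := by group
        _ = (g : G) * (z₂ * x) * (g : G)⁻¹ := by rw [e₂]
        _ = z₂ * ((g : G) * x * (g : G)⁻¹) := by rw [← mul_assoc, c₂ (g : G)]; group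
        _ = _ := by rw [e₁, mul_assoc]
    have k₂ : ((h : G) * g) * x * ((h : G) * g)⁻¹ = z₂ * z₁ * x := by
      calc ((h : G) * g) * x * ((h : G) * g)⁻¹ = (h : G) * ((g : G) * x * (g : G)⁻¹) * (h : G)⁻¹ := by group
        _ = (h : G) * (z₁ * x) * (h : G)⁻¹ := by rw [e₁]
        _ = z₁ * ((h : G) * x * (h : G)⁻¹) := by rw [← mul_assoc, c₁ (h : G)]; group
        _ = _ := by rw [e₂, ← mul_assoc, c₂ z₁]
    refine (inv_mul_eq_one.1 ?_).symm
    rw [← map_inv, ← map_mul]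
    refine hone _ (mul_inv_eq_iff_eq_mul.1 ?_)
    show ((h : G) * g)⁻¹ * ((g : G) * h) * x * (((h : G) * g)⁻¹ * ((g : G) * h))⁻¹ = x
    calc ((h : G) * g)⁻¹ * ((g : G) * h) * x * (((h : G) * g)⁻¹ * ((g : G) * h))⁻¹
        = ((h : G) * g)⁻¹ * (((g : G) * h) * x * ((g : G) * h)⁻¹) * ((h : G) * g) := by group
      _ = ((h : G) * g)⁻¹ * (((h : G) * g) * x * ((h : G) * g)⁻¹) * ((h : G) * g) := by rw [k₁, k₂]
      _ = x := by group
  exact (H.semiregular hA).no_elementary (Fact.out : t.Prime)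
    ((Nat.coprime_primes (Fact.out : t.Prime) hr.1).2 (Ne.symm hrt)) (H.hasPart' hA hr)
    (⟨g, rfl⟩ : A.normalizerMonoidHom g ∈ A.normalizerMonoidHom.range)
    (⟨h, rfl⟩ : A.normalizerMonoidHom h ∈ A.normalizerMonoidHom.range) (hexp g hg) (hexp h hh) hh1 hcom

theorem Hyp.card_tPart_le (H : Hyp p Z S) {A B : Subgroup G} (hA : A ∈ S) (hB : B ∈ S) {t : ℕ}
    [Fact t.Prime] (T : Sylow t G) (hn : Normed Z A T) (hne : A ≠ B)
    (hBT : tPart t B ≤ (T : Subgroup G)) :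
    Nat.card (tPart t B) ≤ t * Nat.card (tPart t Z) := by
  classical
  let ι : tPart t B →* normalizer (A : Set G) := inclusion (hBT.trans hn.1)
  set f := A.normalizerMonoidHom.comp ι with hf
  rw [← f.ker.card_mul_index, index_ker, mul_comm]
  refine Nat.mul_le_mul ?_ ?_
  · by_cases hall : ∀ y, f y = 1
    · rw [show f.range = ⊥ from MonoidHom.range_eq_bot_iff.2 (MonoidHom.ext hall), card_bot]
      exact (Fact.out : t.Prime).pos
    · push Not at hall
      obtain ⟨h, hh⟩ := hall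
      have hle : f.range ≤ zpowers (f h) := by
        rintro _ ⟨g, rfl⟩
        exact H.image_small hA T hn (ι g) (ι h) (hBT g.2) (hBT h.2) hh
      refine (card_le_of_le hle).trans ?_
      rw [Nat.card_zpowers]
      exact Nat.le_of_dvd (Fact.out : t.Prime).pos
        (orderOf_dvd_of_pow_eq_one (H.image_pow hA T hn (ι h) (hBT h.2)))
  · obtain ⟨-, x, hxA, -, hxZ, -, -⟩ := hn
    refine Nat.card_le_card_of_injective (fun y => ⟨((y : tPart t B) : G), ?_⟩) fun a b h =>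
      Subtype.ext (Subtype.ext (congrArg Subtype.val h :))
    obtain ⟨k, hk⟩ := exists_pow_of_mem_tPart (H.comm B hB) (y : tPart t B).2
    refine mem_tPart_of_pow ?_ hk
    have hyA : ((y : tPart t B) : G) ∈ A := H.max A hA x hxA hxZ _
      (H.coprime B hB _ (tPart_le t B (y : tPart t B).2))
      ((normalizerMonoidHom_eq_one _).1 y.2 x hxA)
    by_contra hyZ
    exact hne (H.eq_of_mem hA hB hyA (tPart_le t B (y : tPart t B).2) hyZ)

end Cfsg.Agent.TwoRegSizes
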