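import Cfsg.Agent.TwoRegSizes.Basic
import Cfsg.Agent.Coprime.Conj
import Cfsg.Agent.FGS75.Kazarin

/-!
Without a nontrivial normal `p`-subgroup some member has `p`-power index: two primes in the index are
excluded by semiregularity, one prime by Kazarin's theorem.
-/

set_option autoImplicit false
set_option linter.style.haveILetI false
set_option linter.unusedSectionVars false

namespace Cfsg.Agent.TwoRegSizes

open Subgroup

variable {G : Type*} [Group G] [Finite G] {p : ℕ} {Z : Subgroup G} {S : Set (Subgroup G)}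

theorem Hyp.index_eq (H : Hyp p Z S) {A B : Subgroup G} (hA : A ∈ S) (hB : B ∈ S) : A.index = B.index := by
  have h := A.card_mul_index.trans B.card_mul_index.symm
  rw [H.card_eq A hA B hB] at h
  exact Nat.eq_of_mul_eq_mul_left Nat.card_pos h

theorem Hyp.nc_of_dvd_index (H : Hyp p Z S) {A : Subgroup G} (hA : A ∈ S) {t : ℕ} (ht : t.Prime)
    (htp : t ≠ p) (hd : t ∣ A.index) : NC p Z t := by
  refine ⟨ht, htp, ?_⟩
  by_contra! hall
  haveI := Fact.mk ht
  obtain ⟨T⟩ : Nonempty (Sylow t G) := inferInstance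
  have hle : (T : Subgroup G) ≤ A := fun y hy => H.Z_le A hA (hall y (exists_pow_of_mem_sylow T hy))
  exact T.not_dvd_index (hd.trans (index_dvd_of_le hle))

theorem Hyp.exists_sylow_tPart (H : Hyp p Z S) {B : Subgroup G} (hB : B ∈ S) (t : ℕ) [Fact t.Prime] :
    ∃ T : Sylow t G, tPart t B ≤ (T : Subgroup G) :=
  (isPGroup_tPart (H.comm B hB)).exists_le_sylow

/-- The `t`-part of a member determines the member. -/
def Rigid (p : ℕ) (Z : Subgroup G) (S : Set (Subgroup G)) (t : ℕ) : Prop :=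
  NC p Z t ∧ ∀ A ∈ S, ∀ B ∈ S, ∀ T : Sylow t G, Normed Z A T → tPart t B ≤ (T : Subgroup G) → A = B

theorem Hyp.rigid_of_not_dvd (H : Hyp p Z S) {t : ℕ} (ht : NC p Z t)
    (hd : ∀ A ∈ S, ¬ t ∣ A.index) : Rigid p Z S t := by
  refine ⟨ht, fun A hA B hB T hn hBT => ?_⟩
  haveI := Fact.mk ht.1
  obtain ⟨-, x, hxA, hxT, hxZ, -⟩ := hn
  have hcard : Nat.card (T : Subgroup G) = Nat.card (tPart t B) := by
    rw [card_tPart (H.comm B hB), T.card_eq_multiplicity, ← B.card_mul_index,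
      Nat.factorization_mul Nat.card_pos.ne' B.index_ne_zero_of_finite, Finsupp.add_apply,
      Nat.factorization_eq_zero_of_not_dvd (hd B hB), add_zero]
  have heq := eq_of_le_of_card_ge hBT hcard.le
  exact H.eq_of_mem hA hB hxA (tPart_le t B (heq.ge hxT)) hxZ

theorem Hyp.rigid_of_lt (H : Hyp p Z S) {t : ℕ} (ht : NC p Z t)
    (hv : ∀ A ∈ S, t * Nat.card (tPart t Z) < Nat.card (tPart t A)) : Rigid p Z S t := by
  haveI := Fact.mk ht.1
  refine ⟨ht, fun A hA B hB T hn hBT => ?_⟩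
  by_contra hne
  exact absurd (H.card_tPart_le hA hB T hn hne hBT) (not_le.2 (hv B hB))

/-- A Sylow subgroup normalising a member moves it when its prime divides the index. -/
theorem Hyp.exists_moving (H : Hyp p Z S) {A : Subgroup G} (hA : A ∈ S) {t : ℕ} [Fact t.Prime] (htp : t ≠ p)
    (T : Sylow t G) (hle : (T : Subgroup G) ≤ normalizer (A : Set G)) (hd : t ∣ A.index) :
    ∃ g : normalizer (A : Set G), (g : G) ∈ (T : Subgroup G) ∧ A.normalizerMonoidHom g ≠ 1 := by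
  by_contra! hall
  obtain ⟨x, hxA, hxZ⟩ := H.exists_notMem hA
  refine T.not_dvd_index (hd.trans (index_dvd_of_le fun y hy => ?_))
  obtain ⟨k, hk⟩ := exists_pow_of_mem_sylow T hy
  exact H.max A hA x hxA hxZ y (coprime_of_pow H.prime Fact.out htp hk)
    ((normalizerMonoidHom_eq_one _).1 (hall ⟨y, hle hy⟩ hy) x hxA)

theorem Hyp.exists_rigid (H : Hyp p Z S) : ∃ t, Rigid p Z S t := by
  classical
  by_contra! hno
  have key : ∀ t, NC p Z t → ∀ A ∈ S, t ∣ A.index ∧ Nat.card (tPart t A) ≤ t * Nat.card (tPart t Z) := by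
    intro t ht A hA
    haveI := Fact.mk ht.1
    constructor
    · by_contra hd
      exact hno t (H.rigid_of_not_dvd ht fun B hB => by rwa [H.index_eq hB hA])
    · by_contra hd
      refine hno t (H.rigid_of_lt ht fun B hB => ?_)
      rw [card_tPart (H.comm B hB), ← H.factorization_eq hA hB, ← card_tPart (H.comm A hA)]
      exact not_le.1 hd
  suffices hmain : ∀ q s, NC p Z q → NC p Z s → q < s → False by
    obtain ⟨t₁, -, h₁⟩ := H.two 0
    obtain ⟨t₂, hne, h₂⟩ := H.two t₁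
    rcases Nat.lt_or_gt_of_ne hne with h | h
    · exact hmain _ _ h₂ h₁ h
    · exact hmain _ _ h₁ h₂ h
  intro q s hq hs hqs
  haveI := Fact.mk hq.1
  haveI := Fact.mk hs.1
  obtain ⟨T⟩ : Nonempty (Sylow s G) := inferInstance
  obtain ⟨A, hA, hn⟩ := H.exists_normed hs T
  haveI : IsMulCommutative A := ⟨⟨fun a b => Subtype.ext (H.comm A hA a a.2 b b.2).eq⟩⟩
  obtain ⟨g, hgT, hg1⟩ := H.exists_moving hA hs.2.1 T hn.1 (key s hs A hA).1
  obtain ⟨b, hbA, hbZ, hbq, kb, hkb⟩ := H.hasPart hA hq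
  have hbq' : b ^ q ∈ tPart q Z := mem_tPart_of_pow (k := kb) hbq
    (by rw [← pow_mul, mul_comm, pow_mul, hkb, one_pow])
  haveI : (tPart q Z).Normal := ⟨fun n hn g => by
    rw [mem_center_iff.1 (H.central (tPart_le q Z hn)) g, mul_inv_cancel_right]; exact hn⟩
  have hZA : tPart q Z ≤ tPart q A := Subgroup.closure_mono fun y hy => ⟨H.Z_le A hA hy.1, hy.2⟩
  have hM : zpowers b ⊔ tPart q Z = tPart q A := by
    have hle : zpowers b ⊔ tPart q Z ≤ tPart q A :=
      sup_le (zpowers_le.2 (mem_tPart_of_pow hbA hkb)) hZA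
    refine eq_of_le_of_card_ge hle ((key q hq A hA).2.trans ?_)
    obtain ⟨i, hi⟩ := IsPGroup.iff_card.1 ((isPGroup_tPart (H.comm A hA)).to_le hle : IsPGroup q ↥(zpowers b ⊔ tPart q Z))
    obtain ⟨j, hj⟩ := IsPGroup.iff_card.1 (isPGroup_tPart (t := q) H.comm_Z)
    rw [hi, hj, ← pow_succ']
    refine Nat.pow_le_pow_right hq.1.pos ?_
    by_contra hlt
    refine hbZ (tPart_le q Z ((eq_of_le_of_card_ge (le_sup_right : tPart q Z ≤ zpowers b ⊔ tPart q Z)
      (by rw [hi, hj]; exact Nat.pow_le_pow_right hq.1.pos (by omega))).ge (mem_sup_left (mem_zpowers b))))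
  obtain ⟨i, z, hz, hgb⟩ : ∃ (i : ℤ) (z : G), z ∈ Z ∧ (g : G) * b * (g : G)⁻¹ = b ^ i * z := by
    have hmem : (g : G) * b * (g : G)⁻¹ ∈ tPart q A :=
      mem_tPart_of_pow ((mem_normalizer_iff.1 g.2 b).1 hbA) (k := kb)
        (by rw [conj_pow, hkb, mul_one, mul_inv_cancel])
    rw [← hM, mem_sup_of_normal_right] at hmem
    obtain ⟨_, ⟨i, rfl⟩, z, hz, e⟩ := hmem
    exact ⟨i, z, tPart_le q Z hz, e.symm⟩
  have hiter : ∀ n : ℕ, ∃ w ∈ Z, (g : G) ^ n * b * ((g : G) ^ n)⁻¹ = b ^ (i ^ n) * w := by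
    intro n
    induction n with
    | zero => exact ⟨1, one_mem Z, by simp⟩
    | succ n ih =>
      obtain ⟨w, hw, e⟩ := ih
      refine ⟨z ^ (i ^ n) * w, mul_mem (zpow_mem hz _) hw, ?_⟩
      have hc : Commute (b ^ i) z := mem_center_iff.1 (H.central hz) _
      calc (g : G) ^ (n + 1) * b * ((g : G) ^ (n + 1))⁻¹
          = (g : G) * ((g : G) ^ n * b * ((g : G) ^ n)⁻¹) * (g : G)⁻¹ := by rw [pow_succ']; group
        _ = (g : G) * (b ^ (i ^ n) * w) * (g : G)⁻¹ := by rw [e]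
        _ = ((g : G) * b * (g : G)⁻¹) ^ (i ^ n) * w := by
            rw [conj_zpow]
            calc (g : G) * (b ^ (i ^ n) * w) * (g : G)⁻¹ = (g : G) * b ^ (i ^ n) * (w * (g : G)⁻¹) := by group
              _ = (g : G) * b ^ (i ^ n) * ((g : G)⁻¹ * w) := by rw [mem_center_iff.1 (H.central hw) (g : G)⁻¹]
              _ = _ := by group
        _ = b ^ (i ^ (n + 1)) * (z ^ (i ^ n) * w) := by
            rw [hgb, hc.mul_zpow, ← zpow_mul, ← pow_succ', mul_assoc]
  have hdvd : ∀ m : ℤ, b ^ m ∈ Z → (q : ℤ) ∣ m := by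
    intro m hm
    by_contra hnd
    obtain ⟨u, v, huv⟩ := (Nat.prime_iff_prime_int.1 hq.1).coprime_iff_not_dvd.2 hnd
    refine hbZ ?_
    rw [← zpow_one b, ← huv, zpow_add, mul_comm u, zpow_mul, mul_comm v, zpow_mul, zpow_natCast]
    exact mul_mem (zpow_mem hbq u) (zpow_mem hm v)
  have hi1 : (q : ℤ) ∣ i - 1 := by
    obtain ⟨w, hw, e⟩ := hiter s
    have hfix : (g : G) ^ s * b * ((g : G) ^ s)⁻¹ = b := by
      have h1 := (normalizerMonoidHom_eq_one (g ^ s)).1 (by rw [map_pow]; exact H.image_pow hA T hn g hgT) b hbA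
      rw [SubgroupClass.coe_pow] at h1
      rw [h1.eq, mul_inv_cancel_right]
    rw [hfix] at e
    have hq1 : (q : ℤ) ∣ i ^ s - 1 := hdvd _ (by
      have e' : b ^ (i ^ s - 1) = w⁻¹ := by
        rw [zpow_sub, zpow_one, eq_mul_inv_of_mul_eq e.symm,
          mem_center_iff.1 (inv_mem (H.central hw)) b, mul_inv_cancel_right]
      rw [e']; exact inv_mem hw)
    have hz1 : ((i : ZMod q)) ^ s = 1 := by
      have := (ZMod.intCast_eq_intCast_iff_dvd_sub 1 (i ^ s) q).2 hq1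
      simpa using this.symm
    have hne : (i : ZMod q) ≠ 0 := fun h0 => by
      rw [h0, zero_pow hs.1.ne_zero] at hz1; exact zero_ne_one hz1
    have ho1 : orderOf (i : ZMod q) = 1 := by
      rcases hs.1.eq_one_or_self_of_dvd _ (orderOf_dvd_of_pow_eq_one hz1) with h | h
      · exact h
      · have := Nat.le_of_dvd (by have := hq.1.two_le; omega) (ZMod.orderOf_dvd_card_sub_one hne)
        omega
    exact (ZMod.intCast_eq_intCast_iff_dvd_sub 1 i q).1 (by simp [orderOf_eq_one_iff.1 ho1])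
  refine hg1 ((H.semiregular hA).eq_one_of_fix (show A.normalizerMonoidHom g ∈ A.normalizerMonoidHom.range from ⟨g, rfl⟩) (r := q) ?_
    (a := ⟨b, hbA⟩) hbZ ⟨kb, Subtype.ext hkb⟩ ?_)
  · exact ((Nat.coprime_primes hs.1 hq.1).2 (ne_of_gt hqs)).coprime_dvd_left
      (orderOf_dvd_of_pow_eq_one (H.image_pow hA T hn g hgT))
  · show (g : G) * b * (g : G)⁻¹ * b⁻¹ ∈ Z
    obtain ⟨m, hm⟩ := hi1
    have hbi : b ^ i * b⁻¹ ∈ Z := by
      rw [show b ^ i * b⁻¹ = b ^ (i - 1) by group, hm, zpow_mul, zpow_natCast]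
      exact zpow_mem hbq m
    rw [hgb, mul_assoc, ← mem_center_iff.1 (H.central hz) b⁻¹, ← mul_assoc]
    exact mul_mem hbi hz

theorem Hyp.exists_normalizing (H : Hyp p Z S) {A : Subgroup G} (hA : A ∈ S) {t : ℕ} (ht : NC p Z t) :
    ∃ T : Sylow t G, (T : Subgroup G) ≤ normalizer (A : Set G) := by
  haveI := Fact.mk ht.1
  obtain ⟨r, hr⟩ := H.exists_rigid
  haveI := Fact.mk hr.1.1
  obtain ⟨T'⟩ : Nonempty (Sylow t G) := inferInstance
  obtain ⟨B, hB, hn⟩ := H.exists_normed ht T'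
  obtain ⟨RA, hRA⟩ := H.exists_sylow_tPart hA r
  obtain ⟨RB, hRB⟩ := H.exists_sylow_tPart hB r
  obtain ⟨A', hA', hnA⟩ := H.exists_normed hr.1 RA
  obtain rfl : A' = A := hr.2 A' hA' A hA RA hnA hRA
  obtain ⟨B', hB', hnB⟩ := H.exists_normed hr.1 RB
  obtain rfl : B' = B := hr.2 B' hB' B hB RB hnB hRB
  obtain ⟨g, rfl⟩ := MulAction.exists_smul_eq G RB RA
  obtain ⟨C, hC, hBC⟩ := H.exists_conj hB g
  have hCR : tPart r C ≤ ((g • RB : Sylow r G) : Subgroup G) := (Subgroup.closure_le _).2 fun y hy => by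
    obtain ⟨v, hv, rfl⟩ := hBC.ge hy.1
    obtain ⟨k, hk⟩ := hy.2
    rw [Sylow.coe_subgroup_smul]
    refine ⟨v, hRB (mem_tPart_of_pow hv (k := k) ?_), rfl⟩
    exact (MulAut.conj g).injective ((map_pow _ v _).trans (hk.trans (map_one _).symm))
  obtain rfl : C = A' := (hr.2 A' hA C hC _ hnA hCR).symm
  refine ⟨g • T', ?_⟩
  rw [Sylow.coe_subgroup_smul]
  rintro _ ⟨u, hu, rfl⟩
  have hu' := mem_normalizer_iff.1 (hn.1 hu)
  rw [mem_normalizer_iff]
  intro y
  show y ∈ C ↔ g * u * g⁻¹ * y * (g * u * g⁻¹)⁻¹ ∈ C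
  rw [← hBC]
  constructor
  · rintro ⟨v, hv, rfl⟩
    refine ⟨u * v * u⁻¹, (hu' v).1 hv, ?_⟩
    show g * (u * v * u⁻¹) * g⁻¹ = g * u * g⁻¹ * (g * v * g⁻¹) * (g * u * g⁻¹)⁻¹
    group
  · rintro ⟨v, hv, hve⟩
    refine ⟨u⁻¹ * v * u, (hu' _).2 (by simpa [mul_assoc] using hv), ?_⟩
    show g * (u⁻¹ * v * u) * g⁻¹ = y
    calc g * (u⁻¹ * v * u) * g⁻¹ = (g * u⁻¹ * g⁻¹) * (g * v * g⁻¹) * (g * u * g⁻¹) := by group
      _ = y := by rw [show g * v * g⁻¹ = g * u * g⁻¹ * y * (g * u * g⁻¹)⁻¹ from hve]; group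

theorem Hyp.index_prime_unique (H : Hyp p Z S) {A : Subgroup G} (hA : A ∈ S) {q s : ℕ} (hq : q.Prime)
    (hs : s.Prime) (hqp : q ≠ p) (hsp : s ≠ p) (hqd : q ∣ A.index) (hsd : s ∣ A.index) : q = s := by
  by_contra hne
  haveI := Fact.mk hq
  haveI := Fact.mk hs
  haveI : IsMulCommutative A := ⟨⟨fun a b => Subtype.ext (H.comm A hA a a.2 b b.2).eq⟩⟩
  have key : ∀ t [Fact t.Prime], t ≠ p → t ∣ A.index →
      ∃ e ∈ A.normalizerMonoidHom.range, e ≠ 1 ∧ ∃ k, e ^ t ^ k = 1 := by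
    intro t _ htp hd
    obtain ⟨T, hT⟩ := H.exists_normalizing hA (H.nc_of_dvd_index hA Fact.out htp hd)
    obtain ⟨g, hgT, hg1⟩ := H.exists_moving hA htp T hT hd
    obtain ⟨k, hk⟩ := exists_pow_of_mem_sylow T hgT
    refine ⟨_, ⟨g, rfl⟩, hg1, k, ?_⟩
    rw [← map_pow, show g ^ t ^ k = 1 from Subtype.ext (by simpa using hk), map_one]
  exact ClassCount.Semiregular.false_of_two_primes hne (H.hasPart' hA (H.nc_of_dvd_index hA hq hqp hqd))
    (H.hasPart' hA (H.nc_of_dvd_index hA hs hsp hsd)) _ _ rfl (H.semiregular hA)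
    (key q hqp hqd) (key s hsp hsd)

theorem Hyp.exists_two (H : Hyp p Z S) {A : Subgroup G} (hA : A ∈ S) {q : ℕ} (hq : q.Prime) (hqp : q ≠ p)
    (hd : q ∣ A.index) : ∃ B ∈ S, B ≠ A := by
  by_contra! hall
  haveI := Fact.mk hq
  obtain ⟨T⟩ : Nonempty (Sylow q G) := inferInstance
  refine T.not_dvd_index (hd.trans (index_dvd_of_le fun y hy => ?_))
  obtain ⟨k, hk⟩ := exists_pow_of_mem_sylow T hy
  obtain ⟨B, hB, hyB⟩ := H.cover y (coprime_of_pow H.prime hq hqp hk)
  exact hall B hB ▸ hyB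

/-- A normal subgroup of prime power order prime to `p` lies in `Z`. -/
theorem Hyp.normal_le (H : Hyp p Z S) {A : Subgroup G} (hA : A ∈ S) {q : ℕ} (hq : q.Prime) (hqp : q ≠ p)
    (hd : q ∣ A.index) {l : ℕ} (hl : l.Prime) (hlp : l ≠ p) (M : Subgroup G) [M.Normal] (hM : IsPGroup l M) :
    M ≤ Z := by
  intro b hb
  by_contra hbZ
  haveI := Fact.mk hl
  obtain ⟨kb, hkb⟩ := hM ⟨b, hb⟩
  have hkb' : b ^ l ^ kb = 1 := congrArg Subtype.val hkb
  have hl' : NC p Z l := ⟨hl, hlp, b, ⟨kb, hkb'⟩, hbZ⟩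
  have hmem : ∀ B ∈ S, b ∈ B := by
    intro B hB
    obtain ⟨T, hT⟩ := H.exists_normalizing hB hl'
    have hbN : b ∈ normalizer (B : Set G) := hT (by
      obtain ⟨R, hR⟩ := hM.exists_le_sylow
      obtain ⟨g, rfl⟩ := MulAction.exists_smul_eq G T R
      have h := hR (‹M.Normal›.conj_mem b hb g)
      rw [Sylow.coe_subgroup_smul] at h
      obtain ⟨v, hv, hve⟩ := h
      have hve' : g * v * g⁻¹ = g * b * g⁻¹ := hve
      rwa [mul_left_cancel (mul_right_cancel hve')] at hv)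
    obtain ⟨r, hrl, hr⟩ := H.two l
    obtain ⟨a, haB, haZ, -, ka, hka⟩ := H.hasPart hB hr
    have hc : b * a * b⁻¹ * a⁻¹ = 1 := by
      obtain ⟨kc, hkc⟩ := hM ⟨b * (a * b⁻¹ * a⁻¹), mul_mem hb (‹M.Normal›.conj_mem _ (inv_mem hb) a)⟩
      have h1 : (b * a * b⁻¹ * a⁻¹) ^ l ^ kc = 1 := by
        have h := congrArg Subtype.val hkc
        simpa [mul_assoc] using h
      have hba : b * a * b⁻¹ ∈ B := (mem_normalizer_iff.1 hbN a).1 haB
      have h2 : (b * a * b⁻¹ * a⁻¹) ^ r ^ ka = 1 := by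
        rw [(H.comm B hB _ hba _ (inv_mem haB)).mul_pow, inv_pow, conj_pow, hka, mul_one, mul_inv_cancel,
          inv_one, mul_one]
      have h3 := (pow_gcd_eq_one (m := l ^ kc) (n := r ^ ka)).2 ⟨h1, h2⟩
      rwa [Nat.Coprime.pow kc ka ((Nat.coprime_primes hl hr.1).2 (Ne.symm hrl)), pow_one] at h3
    exact H.max B hB a haB haZ b (coprime_of_pow H.prime hl hlp hkb')
      (mul_inv_eq_iff_eq_mul.1 (mul_inv_eq_one.1 hc))
  obtain ⟨B, hB, hne⟩ := H.exists_two hA hq hqp hd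
  exact hne (H.eq_of_mem hB hA (hmem B hB) (hmem A hA) hbZ)

/-- With no normal `p`-subgroup, a member has `p`-power index. -/
theorem Hyp.core (H : Hyp p Z S) (hO : ∀ V : Subgroup G, V.Normal → IsPGroup p V → V = ⊥)
    {A : Subgroup G} (hA : A ∈ S) {q : ℕ} (hq : q.Prime) (hqp : q ≠ p) (hd : q ∣ A.index) : False := by
  haveI := Fact.mk hq
  haveI := Fact.mk H.prime
  obtain ⟨T⟩ : Nonempty (Sylow q G) := inferInstance
  obtain ⟨B, hB, hnT, x, hxB, hxT, hxZ, -, hcomm⟩ := H.exists_normed (H.nc_of_dvd_index hA hq hqp hd) T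
  haveI hZn : Z.Normal := ⟨fun n hn g => by
    rw [mem_center_iff.1 (H.central hn) g, mul_inv_cancel_right]; exact hn⟩
  set π := QuotientGroup.mk' Z with hπ
  set D := (centralizer ({π x} : Set (G ⧸ Z))).comap π with hD
  have hidx : (centralizer ({π x} : Set (G ⧸ Z))).index = D.index :=
    (index_comap_of_surjective _ (QuotientGroup.mk'_surjective Z)).symm
  have hpp : ∀ t : ℕ, t.Prime → t ∣ D.index → t = p := by
    intro t ht htd
    by_contra htp
    haveI := Fact.mk ht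
    have hBD : B ≤ D := fun y hy => mem_centralizer_singleton_iff.2 (by
      rw [← map_mul, ← map_mul, (H.comm B hB y hy x hxB).eq])
    by_cases htB : t ∣ B.index
    · obtain rfl : t = q := H.index_prime_unique hB ht hq htp hqp htB (H.index_eq hA hB ▸ hd)
      refine T.not_dvd_index (htd.trans (index_dvd_of_le fun y hy => mem_centralizer_singleton_iff.2 ?_))
      have h1 : π (y * x * y⁻¹ * x⁻¹) = 1 := (QuotientGroup.eq_one_iff _).2 (hcomm y hy)
      rw [map_mul, map_mul, map_mul, map_inv, map_inv] at h1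
      exact mul_inv_eq_iff_eq_mul.1 (mul_inv_eq_one.1 h1)
    · exact htB (htd.trans (index_dvd_of_le hBD))
  obtain ⟨k, hk⟩ : ∃ k, D.index = p ^ k :=
    ⟨_, Nat.eq_prime_pow_of_unique_prime_dvd D.index_ne_zero_of_finite fun {t} ht htd => hpp t ht htd⟩
  haveI := FGS75.kazarin (Nat.card (G ⧸ Z)) le_rfl (π x) H.prime (hidx.trans hk)
  set R := normalClosure ({π x} : Set (G ⧸ Z)) with hR
  haveI : Nontrivial R := (nontrivial_iff_ne_bot R).2 fun h => hxZ
    ((QuotientGroup.eq_one_iff x).1 (mem_bot.1 (h ▸ subset_normalClosure (Set.mem_singleton _))))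
  obtain ⟨l, N, hl, hN, hNp, hN1, -⟩ := Coprime.exists_normal_pGroup_of_isSolvable R
  haveI := Fact.mk hl
  obtain ⟨U⟩ : Nonempty (Sylow l R) := inferInstance
  -- the normal closure of `N` is an `l`-group
  set W := normalClosure ((N.map R.subtype : Subgroup (G ⧸ Z)) : Set (G ⧸ Z)) with hW
  have hWU : W ≤ (U : Subgroup R).map R.subtype := by
    rw [hW, normalClosure, closure_le]
    intro c hc
    obtain ⟨a, ⟨n, hn, rfl⟩, hac⟩ := Group.mem_conjugatesOfSet_iff.1 hc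
    obtain ⟨g, rfl⟩ := isConj_iff.1 hac
    let φ : R ≃* R := MulAut.conjNormal g
    obtain ⟨U', hU'⟩ := (hNp.map φ.toMonoidHom).exists_le_sylow
    haveI : (N.map φ.toMonoidHom).Normal := hN.map _ φ.surjective
    obtain ⟨r, rfl⟩ := MulAction.exists_smul_eq R U U'
    have hv : φ n ∈ (U : Subgroup R) := by
      have h := hU' ((inferInstance : (N.map φ.toMonoidHom).Normal).conj_mem _ ⟨n, hn, rfl⟩ r)
      rw [Sylow.coe_subgroup_smul] at h
      obtain ⟨v, hv, hve⟩ := h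
      have hve' : r * v * r⁻¹ = r * φ n * r⁻¹ := hve
      rwa [mul_left_cancel (mul_right_cancel hve')] at hv
    exact ⟨φ n, hv, by simp [φ, MulAut.conjNormal_apply]⟩
  have hWp : IsPGroup l W := (U.2.map R.subtype).to_le hWU
  have hW1 : W ≠ ⊥ := fun h => hN1 (by
    have h1 : N.map R.subtype ≤ ⊥ := h ▸ subset_normalClosure
    exact (Subgroup.map_eq_bot_iff_of_injective _ R.subtype_injective).1 (le_bot_iff.1 h1))
  haveI : W.Normal := normalClosure_normal
  -- a normal `l`-subgroup of `G` above it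
  set M := W.comap π with hMdef
  haveI : M.Normal := inferInstance
  let f := π.subgroupComap W
  have hf : Function.Surjective f := π.subgroupComap_surjective_of_surjective W (QuotientGroup.mk'_surjective Z)
  obtain ⟨V⟩ : Nonempty (Sylow l M) := inferInstance
  have htop : (V : Subgroup M).map f = ⊤ := by
    rw [← Sylow.coe_mapSurjective hf V]
    exact ((V.mapSurjective hf).is_maximal' (hWp.to_subgroup ⊤) le_top).symm
  have hVn : (V : Subgroup M).Normal := by
    refine ⟨fun v hv m => ?_⟩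
    obtain ⟨w, hw, hwe⟩ := htop.ge (mem_top (f m))
    have hz : ((w⁻¹ * m : M) : G) ∈ Z := (QuotientGroup.eq_one_iff _).1 (by
      have h1 : f (w⁻¹ * m) = 1 := by rw [map_mul, map_inv, hwe, inv_mul_cancel]
      exact congrArg Subtype.val h1)
    have hc := mem_center_iff.1 (H.central hz) (v : G)
    have e : m * v * m⁻¹ = w * v * w⁻¹ := by
      apply Subtype.ext
      push_cast at hc ⊢
      calc (m : G) * v * (m : G)⁻¹ = (w : G) * (((w : G)⁻¹ * m) * v) * (m : G)⁻¹ := by group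
        _ = (w : G) * (v * ((w : G)⁻¹ * m)) * (m : G)⁻¹ := by rw [hc]
        _ = _ := by group
    rw [e]
    exact mul_mem (mul_mem hw hv) (inv_mem hw)
  haveI := V.characteristic_of_normal hVn
  have hVp : IsPGroup l ((V : Subgroup M).map M.subtype) := V.2.map _
  have hVZ : (V : Subgroup M).map M.subtype ≤ Z := by
    by_cases hlp : l = p
    · subst hlp
      rw [hO _ inferInstance hVp]
      exact bot_le
    · exact H.normal_le hA hq hqp hd hl hlp _ hVp
  refine hW1 (eq_bot_iff.2 fun c hc => ?_)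
  obtain ⟨w, hw, hwe⟩ := htop.ge (mem_top (⟨c, hc⟩ : W))
  have e : π (w : G) = c := congrArg Subtype.val hwe
  rw [mem_bot, ← e]
  exact (QuotientGroup.eq_one_iff _).2 (hVZ ⟨w, hw, rfl⟩)

end Cfsg.Agent.TwoRegSizes
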