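import Cfsg.Agent.TwoRegSizes.Core
import Cfsg.Agent.Lib.ClassSize
import Mathlib.GroupTheory.SchurZassenhaus

/-!
Groups with two `p`-regular class sizes: reduction to the axioms, and the quotient step.
-/

set_option autoImplicit false
set_option linter.style.haveILetI false
set_option linter.unusedSectionVars false

namespace Cfsg.Agent.TwoRegSizes

open Subgroup

universe u

variable {G : Type u} [Group G] [Finite G] {p : ℕ}

theorem Hyp.nonempty {Z : Subgroup G} {S : Set (Subgroup G)} (H : Hyp p Z S) : ∃ A, A ∈ S := by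
  obtain ⟨A, hA, -⟩ := H.cover 1 (by simp)
  exact ⟨A, hA⟩

theorem map_eq_of_coprime {V : Subgroup G} [V.Normal] [Fact p.Prime] (hV : IsPGroup p V) {a b : G}
    (ha : (orderOf a).Coprime p) (hb : (orderOf b).Coprime p) (hc : Commute a b)
    (h : QuotientGroup.mk' V a = QuotientGroup.mk' V b) : a = b := by
  have hmem : a⁻¹ * b ∈ V := QuotientGroup.eq.1 h
  obtain ⟨k, hk⟩ := Element.orderOf_eq_pow_of_mem_isPGroup hV hmem
  have h1 : (orderOf (a⁻¹ * b)).Coprime p := by
    refine Nat.Coprime.coprime_dvd_left (hc.inv_left.orderOf_mul_dvd_lcm) ?_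
    rw [orderOf_inv]
    exact (Nat.Coprime.mul_left ha hb).coprime_dvd_left (Nat.lcm_dvd_mul _ _)
  have h2 : orderOf (a⁻¹ * b) = 1 :=
    Nat.eq_one_of_dvd_coprimes (h1.pow_right k) dvd_rfl (hk ▸ dvd_rfl)
  exact inv_mul_eq_one.1 (orderOf_eq_one_iff.1 h2)

theorem Hyp.quotient {Z : Subgroup G} {S : Set (Subgroup G)} (H : Hyp p Z S) {V : Subgroup G} [V.Normal]
    (hV : IsPGroup p V) :
    Hyp p (Z.map (QuotientGroup.mk' V)) ((fun A => A.map (QuotientGroup.mk' V)) '' S) := by
  haveI := Fact.mk H.prime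
  set π := QuotientGroup.mk' V with hπ
  have hsurj := QuotientGroup.mk'_surjective V
  have hlift : ∀ a : G, ∀ A ∈ S, a ∈ A → a ∉ Z → π a ∉ Z.map π := by
    rintro a A hA haA haZ ⟨z, hz, hze⟩
    refine haZ (map_eq_of_coprime hV (H.coprime A hA a haA) (H.coprime A hA z (H.Z_le A hA hz))
      (H.comm A hA a haA z (H.Z_le A hA hz)) hze.symm ▸ hz)
  refine ⟨H.prime, ?_, ?_, ?_, ?_, ?_, ?_, ?_, ?_, ?_⟩
  · rintro _ ⟨z, hz, rfl⟩
    refine mem_center_iff.2 fun g => ?_
    obtain ⟨g, rfl⟩ := hsurj g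
    rw [← map_mul, ← map_mul, mem_center_iff.1 (H.central hz) g]
  · rintro _ ⟨A, hA, rfl⟩ _ ⟨a, ha, rfl⟩ _ ⟨b, hb, rfl⟩
    exact (H.comm A hA a ha b hb).map π
  · rintro _ ⟨A, hA, rfl⟩ _ ⟨a, ha, rfl⟩
    exact (H.coprime A hA a ha).coprime_dvd_left (orderOf_map_dvd π a)
  · rintro _ ⟨A, hA, rfl⟩
    exact map_mono (H.Z_le A hA)
  · have hcard : ∀ A ∈ S, Nat.card (A.map π) = Nat.card A := fun A hA => by
      refine (Nat.card_congr (Equiv.ofBijective (fun a : A => (⟨π a, a, a.2, rfl⟩ : A.map π)) ⟨?_, ?_⟩)).symm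
      · intro a b h
        exact Subtype.ext (map_eq_of_coprime hV (H.coprime A hA a a.2) (H.coprime A hA b b.2)
          (H.comm A hA a a.2 b b.2) (congrArg Subtype.val h))
      · rintro ⟨_, a, ha, rfl⟩
        exact ⟨⟨a, ha⟩, rfl⟩
    rintro _ ⟨A, hA, rfl⟩ _ ⟨B, hB, rfl⟩
    rw [hcard A hA, hcard B hB, H.card_eq A hA B hB]
  · intro g hg
    obtain ⟨x, rfl, hx⟩ := Element.exists_pPrimeElement_preimage H.prime π hsurj hg
    obtain ⟨A, hA, hxA⟩ := H.cover x hx
    exact ⟨_, ⟨A, hA, rfl⟩, x, hxA, rfl⟩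
  · rintro _ ⟨A, hA, rfl⟩ _ ⟨x, hxA, rfl⟩ hxZ y hy _ ⟨a, ha, rfl⟩
    obtain ⟨y, rfl⟩ := hsurj y
    obtain ⟨c, hc, hcV⟩ := exists_lift hV (H.coprime A hA x hxA) hy
    rw [show π y = π c from hcV]
    exact (H.cent A hA x hxA (fun h => hxZ ⟨x, h, rfl⟩) c hc a ha).map π
  · rintro _ ⟨A, hA, rfl⟩ _ ⟨x, hxA, rfl⟩ hxZ y hyo hy
    obtain ⟨y, rfl⟩ := hsurj y
    obtain ⟨c, hc, hcV⟩ := exists_lift hV (H.coprime A hA x hxA) hy
    rw [show π y = π c from hcV] at hyo ⊢
    refine ⟨Element.pComplPart p c, H.max A hA x hxA (fun h => hxZ ⟨x, h, rfl⟩) _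
      (Element.coprime_orderOf_pComplPart H.prime c) (Element.commute_pComplPart hc.symm).symm, ?_⟩
    rw [(Element.map_pPart H.prime π c).2, (Element.pPart_eq_one H.prime hyo).2]
  · intro q
    obtain ⟨t, htq, ht, htp, x, ⟨k, hk⟩, hxZ⟩ := H.two q
    obtain ⟨A, hA, hxA⟩ := H.cover x (coprime_of_pow H.prime ht htp hk)
    exact ⟨t, htq, ht, htp, π x, ⟨k, by rw [← map_pow, hk, map_one]⟩, hlift x A hA hxA hxZ⟩
where
  exists_lift {G : Type u} [Group G] [Finite G] {p : ℕ} [Fact p.Prime] {V : Subgroup G} [V.Normal]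
      (hV : IsPGroup p V) {x y : G} (hx : (orderOf x).Coprime p)
      (h : Commute (QuotientGroup.mk' V y) (QuotientGroup.mk' V x)) :
      ∃ c : G, Commute c x ∧ QuotientGroup.mk' V y = QuotientGroup.mk' V c := by
    obtain ⟨k, hk⟩ := IsPGroup.iff_card.1 hV
    obtain ⟨c, hc, hcV⟩ := Coprime.exists_fixed_of_invariant_coset (A := zpowers x) (N := V) (g := y)
      (le_top.trans (normalizer_eq_top_iff.2 ‹V.Normal›).ge) (by rw [Nat.card_zpowers, hk]; exact hx.pow_right k)
      (Or.inl (Group.isSolvable_of_comm fun a b => mul_comm a b)) (by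
        rintro _ ⟨i, rfl⟩
        refine (QuotientGroup.eq_one_iff _).1 ?_
        show QuotientGroup.mk' V (y⁻¹ * x ^ i * y * (x ^ i)⁻¹) = 1
        rw [map_mul, map_mul, map_mul, map_inv, map_inv, map_zpow,
          mul_assoc (QuotientGroup.mk' V y)⁻¹, (h.symm.zpow_left i).eq, inv_mul_cancel_left, mul_inv_cancel])
    exact ⟨c, (mem_centralizer_iff.1 hc x (mem_zpowers x)).symm, QuotientGroup.eq.2 hcV⟩

/-- Some member has `p`-power index. -/
theorem exists_pow_index (n : ℕ) : ∀ {G : Type u} [Group G] [Finite G] {Z : Subgroup G}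
    {S : Set (Subgroup G)}, Nat.card G = n → Hyp p Z S →
      ∃ A ∈ S, ∀ t : ℕ, t.Prime → t ∣ A.index → t = p := by
  induction n using Nat.strong_induction_on with
  | _ n ih =>
    intro G _ _ Z S hn H
    haveI := Fact.mk H.prime
    by_cases hO : ∀ V : Subgroup G, V.Normal → IsPGroup p V → V = ⊥
    · obtain ⟨A, hA⟩ := H.nonempty
      refine ⟨A, hA, fun t ht htd => ?_⟩
      by_contra htp
      exact H.core hO hA ht htp htd
    · push Not at hO
      obtain ⟨V, hVn, hV, hV1⟩ := hO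
      haveI := hVn
      have hlt : Nat.card (G ⧸ V) < n := by
        rw [← hn, ← index_eq_card, ← V.card_mul_index]
        exact lt_mul_of_one_lt_left (Nat.pos_of_ne_zero V.index_ne_zero_of_finite)
          ((one_lt_card_iff_ne_bot _).2 hV1)
      obtain ⟨_, ⟨A, hA, rfl⟩, h⟩ := ih _ hlt rfl (H.quotient hV)
      refine ⟨A, hA, fun t ht htd => ?_⟩
      have hc : Nat.card (A.map (QuotientGroup.mk' V)) ∣ Nat.card A := A.card_map_dvd _
      have hd : A.index ∣ Nat.card V * (A.map (QuotientGroup.mk' V)).index := by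
        have e1 := A.card_mul_index
        have e2 := (A.map (QuotientGroup.mk' V)).card_mul_index
        rw [← index_eq_card] at e2
        have e3 := V.card_mul_index
        obtain ⟨d, hd⟩ := hc
        have e4 : Nat.card (A.map (QuotientGroup.mk' V)) * (d * A.index)
            = Nat.card (A.map (QuotientGroup.mk' V)) * (Nat.card V * (A.map (QuotientGroup.mk' V)).index) := by
          rw [← mul_assoc, ← hd, e1, ← e3, ← e2]; ring
        exact ⟨d, by rw [← Nat.eq_of_mul_eq_mul_left Nat.card_pos e4, mul_comm]⟩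
      rcases (ht.dvd_mul).1 (htd.trans hd) with h1 | h1
      · obtain ⟨k, hk⟩ := IsPGroup.iff_card.1 hV
        exact (Nat.prime_dvd_prime_iff_eq ht H.prime).1 (ht.dvd_of_dvd_pow (hk ▸ h1))
      · exact h t ht h1

/-- The central `p'`-elements. -/
def regCenter (G : Type u) [Group G] [Finite G] (p : ℕ) : Subgroup G where
  carrier := {z | z ∈ center G ∧ (orderOf z).Coprime p}
  one_mem' := ⟨one_mem _, by simp⟩
  inv_mem' := fun {a} ha => ⟨inv_mem ha.1, by rw [orderOf_inv]; exact ha.2⟩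
  mul_mem' := fun {a b} ha hb => ⟨mul_mem ha.1 hb.1, by
    have hc : Commute a b := mem_center_iff.1 hb.1 a
    exact ((Nat.Coprime.mul_left ha.2 hb.2).coprime_dvd_left (Nat.lcm_dvd_mul _ _)).coprime_dvd_left
      hc.orderOf_mul_dvd_lcm⟩

theorem mem_of_primePow {K : Subgroup G} {x : G}
    (h : ∀ y ∈ zpowers x, ∀ t k : ℕ, t.Prime → orderOf y = t ^ k → y ∈ K) : x ∈ K := by
  have htop : K.subgroupOf (zpowers x) = ⊤ := by
    refine top_le_iff.1 ((Element.closure_primePow_orderOf (G := zpowers x)).ge.trans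
      ((Subgroup.closure_le _).2 ?_))
    rintro y ⟨t, k, ht, hk⟩
    exact h y y.2 t k ht (by rw [orderOf_coe, hk])
  exact (subgroupOf_eq_top.1 htop) (mem_zpowers x)

/-- All `p`-regular noncentral elements have centralisers of index `m`. -/
def TwoSizes (p : ℕ) (G : Type u) [Group G] (m : ℕ) : Prop :=
  ∀ x : G, (orderOf x).Coprime p → x ∉ center G → (centralizer ({x} : Set G)).index = m

theorem TwoSizes.eq_of_le {m : ℕ} (h : TwoSizes p G m) {x y : G} (hx : (orderOf x).Coprime p)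
    (hxc : x ∉ center G) (hy : (orderOf y).Coprime p) (hyc : y ∉ center G)
    (hle : centralizer ({x} : Set G) ≤ centralizer ({y} : Set G)) :
    centralizer ({x} : Set G) = centralizer ({y} : Set G) := by
  refine eq_of_le_of_card_ge hle (le_of_eq ?_)
  have h1 := (centralizer ({x} : Set G)).card_mul_index.trans (centralizer ({y} : Set G)).card_mul_index.symm
  rw [h x hx hxc, h y hy hyc] at h1
  exact (Nat.eq_of_mul_eq_mul_right (h y hy hyc ▸ Nat.pos_of_ne_zero Subgroup.index_ne_zero_of_finite) h1).symm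

theorem TwoSizes.le_of_coprime {m : ℕ} (h : TwoSizes p G m) {x y : G} (hx : (orderOf x).Coprime p)
    (hxc : x ∉ center G) (hy : (orderOf y).Coprime p) (hc : Commute x y)
    (hco : (orderOf x).Coprime (orderOf y)) :
    centralizer ({x} : Set G) ≤ centralizer ({y} : Set G) := by
  have he := Element.centralizer_mul_of_coprime hc hco
  have hxy : (orderOf (x * y)).Coprime p := by
    rw [hc.orderOf_mul_eq_mul_orderOf_of_coprime hco]; exact Nat.Coprime.mul_left hx hy
  have hxyc : x * y ∉ center G := fun hz => hxc (mem_center_iff.2 fun g => by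
    have hg : g ∈ centralizer ({x * y} : Set G) := mem_centralizer_singleton_iff.2 (mem_center_iff.1 hz g)
    rw [he] at hg
    exact mem_centralizer_singleton_iff.1 hg.1)
  rw [← h.eq_of_le hxy hxyc hx hxc (he.le.trans inf_le_left), he]
  exact inf_le_right

theorem TwoSizes.hyp {m : ℕ} (hp : p.Prime) (h : TwoSizes p G m)
    (htwo : ∀ q, ∃ t, t ≠ q ∧ NC p (regCenter G p) t) :
    ∃ S : Set (Subgroup G), Hyp p (regCenter G p) S := by
  classical
  haveI := Fact.mk hp
  -- noncentral prime-power parts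
  have hpart : ∀ x : G, (orderOf x).Coprime p → x ∉ center G → ∃ y ∈ zpowers x, ∃ t k : ℕ,
      t.Prime ∧ t ≠ p ∧ orderOf y = t ^ k ∧ y ∉ center G ∧
        centralizer ({x} : Set G) = centralizer ({y} : Set G) := by
    intro x hx hxc
    obtain ⟨y, hy, t, k, ht, hk, hyc⟩ : ∃ y ∈ zpowers x, ∃ t k : ℕ, t.Prime ∧ orderOf y = t ^ k ∧ y ∉ center G := by
      by_contra! hall
      exact hxc (mem_of_primePow fun y hy t k ht hk => hall y hy t k ht hk)
    have hyo : (orderOf y).Coprime p := hx.coprime_dvd_left (orderOf_dvd_of_mem_zpowers hy)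
    refine ⟨y, hy, t, k, ht, fun e => ?_, hk, hyc,
      h.eq_of_le hx hxc hyo hyc (ClassSize.centralizer_le_of_mem_zpowers hy)⟩
    subst e
    rcases Nat.eq_zero_or_pos k with h0 | h0
    · exact hyc (orderOf_eq_one_iff.1 (by rw [hk, h0, pow_zero]) ▸ one_mem _)
    · rw [hk, Nat.coprime_pow_left_iff h0, Nat.coprime_self] at hyo
      exact ht.ne_one hyo
  -- every `p'`-element of a centraliser is central in it
  have hcore : ∀ x : G, (orderOf x).Coprime p → x ∉ center G → ∀ w, (orderOf w).Coprime p →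
      w ∈ centralizer ({x} : Set G) → centralizer ({x} : Set G) ≤ centralizer ({w} : Set G) := by
    intro x₀ hx₀ hx₀c w₀ hw₀ hw₀x
    obtain ⟨x, -, t, k, ht, htp, hxk, hxc, hxe⟩ := hpart x₀ hx₀ hx₀c
    rw [hxe] at hw₀x ⊢
    have hx : (orderOf x).Coprime p := by rw [hxk]; exact ((Nat.coprime_primes ht hp).2 htp).pow_left k
    -- a noncentral element of another prime in the centraliser
    obtain ⟨s, hst, hs, hsp, y, ⟨ky, hky⟩, hyZ⟩ := htwo t
    haveI := Fact.mk hs
    have hy : (orderOf y).Coprime p := coprime_of_pow hp hs hsp hky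
    have hyc : y ∉ center G := fun e => hyZ ⟨e, hy⟩
    have hC : Nat.card (centralizer ({x} : Set G)) = Nat.card (centralizer ({y} : Set G)) := by
      have h1 := (centralizer ({x} : Set G)).card_mul_index.trans (centralizer ({y} : Set G)).card_mul_index.symm
      rw [h x hx hxc, h y hy hyc] at h1
      exact Nat.eq_of_mul_eq_mul_right (h y hy hyc ▸ Nat.pos_of_ne_zero Subgroup.index_ne_zero_of_finite) h1
    obtain ⟨y', hy'C, ⟨ky', hky'⟩, hy'c⟩ : ∃ y' ∈ centralizer ({x} : Set G), (∃ k, y' ^ s ^ k = 1) ∧ y' ∉ center G := by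
      by_contra! hall
      obtain ⟨R⟩ : Nonempty (Sylow s (centralizer ({x} : Set G))) := inferInstance
      have h1 : (R : Subgroup (centralizer ({x} : Set G))).map (centralizer ({x} : Set G)).subtype ≤
          tPart s (center G) := by
        rintro _ ⟨v, hv, rfl⟩
        obtain ⟨i, hi⟩ := R.2 ⟨v, hv⟩
        have hi' : (v : G) ^ s ^ i = 1 := congrArg (fun w : R => ((w : centralizer ({x} : Set G)) : G)) hi
        exact mem_tPart_of_pow (hall v v.2 ⟨i, hi'⟩) hi'
      have hcomm : ∀ a ∈ center G, ∀ b ∈ center G, Commute a b := fun a _ b hb => mem_center_iff.1 hb a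
      have hle : tPart s (center G) ⊔ zpowers y ≤ centralizer ({y} : Set G) :=
        sup_le ((tPart_le _ _).trans (center_le_centralizer _))
          (zpowers_le.2 (mem_centralizer_singleton_iff.2 rfl))
      haveI : (tPart s (center G)).Normal := ⟨fun n hn g => by
        rw [mem_center_iff.1 (tPart_le s (center G) hn) g, mul_inv_cancel_right]; exact hn⟩
      have hzy : IsPGroup s (zpowers y) := IsPGroup.of_card_dvd_pow (n := ky) (by
        rw [Nat.card_zpowers]; exact orderOf_dvd_of_pow_eq_one hky)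
      have hp1 : IsPGroup s ↥(tPart s (center G) ⊔ zpowers y) :=
        (isPGroup_tPart hcomm).to_sup_of_normal_left hzy
      obtain ⟨i, hi⟩ := IsPGroup.iff_card.1 hp1
      have h2 : Nat.card ↥(tPart s (center G) ⊔ zpowers y) ≤ Nat.card (tPart s (center G)) := by
        refine le_trans ?_ (card_le_of_le h1)
        rw [card_map_of_injective (centralizer ({x} : Set G)).subtype_injective, R.card_eq_multiplicity, hC, hi]
        exact Nat.pow_le_pow_right hs.pos ((hs.pow_dvd_iff_le_factorization Nat.card_pos.ne').1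
          (hi ▸ card_dvd_of_le hle))
      exact hyc (tPart_le s (center G) ((eq_of_le_of_card_ge le_sup_left h2).ge (mem_sup_right (mem_zpowers y))))
    have hy' : (orderOf y').Coprime p := coprime_of_pow hp hs hsp hky'
    have hxy' : Commute x y' := (mem_centralizer_singleton_iff.1 hy'C : y' * x = x * y').symm
    have hCy : centralizer ({x} : Set G) = centralizer ({y'} : Set G) :=
      h.eq_of_le hx hxc hy' hy'c (h.le_of_coprime hx hxc hy' hxy' (by
        rw [hxk]
        exact ((((Nat.coprime_primes ht hs).2 (Ne.symm hst)).pow k ky')).coprime_dvd_right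
          (orderOf_dvd_of_pow_eq_one hky')))
    intro g hg
    refine mem_centralizer_singleton_iff.2 ?_
    have hmem : w₀ ∈ centralizer ((centralizer ({x} : Set G) : Subgroup G) : Set G) := by
      refine mem_of_primePow fun w hw r j hr hj => mem_centralizer_iff.2 fun c hc => ?_
      have hwC : w ∈ centralizer ({x} : Set G) := zpowers_le.2 hw₀x hw
      have hwo : (orderOf w).Coprime p := hw₀.coprime_dvd_left (orderOf_dvd_of_mem_zpowers hw)
      by_cases hrt : r = t
      · have hwy : Commute y' w := (mem_centralizer_singleton_iff.1 (hCy ▸ hwC) : w * y' = y' * w).symm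
        exact mem_centralizer_singleton_iff.1 (h.le_of_coprime hy' hy'c hwo hwy (by
          rw [hj, hrt]
          exact (((Nat.coprime_primes hs ht).2 hst).pow ky' j).coprime_dvd_left
            (orderOf_dvd_of_pow_eq_one hky')) (hCy ▸ hc))
      · have hwx : Commute x w := (mem_centralizer_singleton_iff.1 hwC : w * x = x * w).symm
        exact mem_centralizer_singleton_iff.1 (h.le_of_coprime hx hxc hwo hwx (by
          rw [hj, hxk]; exact ((Nat.coprime_primes ht hr).2 (Ne.symm hrt)).pow k j) hc)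
    exact mem_centralizer_iff.1 hmem g hg
  -- the members
  let mem : ∀ x : {x : G // (orderOf x).Coprime p ∧ x ∉ center G}, Subgroup G := fun x =>
    { carrier := {y | (orderOf y).Coprime p ∧ y ∈ centralizer ({(x : G)} : Set G)}
      one_mem' := ⟨by simp, one_mem _⟩
      inv_mem' := fun {a} ha => ⟨by rw [orderOf_inv]; exact ha.1, inv_mem ha.2⟩
      mul_mem' := fun {a b} ha hb => ⟨by
        have hc : Commute a b :=
          mem_centralizer_singleton_iff.1 (hcore x x.2.1 x.2.2 b hb.1 hb.2 ha.2)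
        exact ((Nat.Coprime.mul_left ha.1 hb.1).coprime_dvd_left (Nat.lcm_dvd_mul _ _)).coprime_dvd_left
          hc.orderOf_mul_dvd_lcm, mul_mem ha.2 hb.2⟩ }
  have hnc : ∀ x ∈ Set.range mem, ∀ a ∈ x, a ∉ regCenter G p → a ∉ center G := by
    rintro _ ⟨x, rfl⟩ a ha haZ e
    exact haZ ⟨e, ha.1⟩
  have heq : ∀ x : {x : G // (orderOf x).Coprime p ∧ x ∉ center G}, ∀ a ∈ mem x, a ∉ regCenter G p →
      centralizer ({(x : G)} : Set G) = centralizer ({a} : Set G) := fun x a ha haZ =>
    h.eq_of_le x.2.1 x.2.2 ha.1 (hnc _ ⟨x, rfl⟩ a ha haZ) (hcore x x.2.1 x.2.2 a ha.1 ha.2)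
  refine ⟨Set.range mem, hp, fun z hz => hz.1, ?_, ?_, ?_, ?_, ?_, ?_, ?_, htwo⟩
  · rintro _ ⟨x, rfl⟩ a ha b hb
    exact mem_centralizer_singleton_iff.1 (hcore x x.2.1 x.2.2 b hb.1 hb.2 ha.2)
  · rintro _ ⟨x, rfl⟩ a ha
    exact ha.1
  · rintro _ ⟨x, rfl⟩ z hz
    exact ⟨hz.2, center_le_centralizer _ hz.1⟩
  · have hv : ∀ x : {x : G // (orderOf x).Coprime p ∧ x ∉ center G}, ∀ t : ℕ, t.Prime →
        (Nat.card (mem x)).factorization t =
          if t = p then 0 else (Nat.card (centralizer ({(x : G)} : Set G))).factorization t := by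
      intro x t ht
      split_ifs with htp
      · subst htp
        refine Nat.factorization_eq_zero_of_not_dvd fun hd => ?_
        obtain ⟨a, ha⟩ := exists_prime_orderOf_dvd_card' (G := mem x) t hd
        have h1 := a.2.1
        rw [orderOf_coe, ha, Nat.coprime_self] at h1
        exact ht.ne_one h1
      · haveI := Fact.mk ht
        refine le_antisymm ((ht.pow_dvd_iff_le_factorization Nat.card_pos.ne').1
          ((Nat.ordProj_dvd _ t).trans (card_dvd_of_le fun a ha => ha.2))) ?_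
        obtain ⟨R⟩ : Nonempty (Sylow t (centralizer ({(x : G)} : Set G))) := inferInstance
        refine (ht.pow_dvd_iff_le_factorization Nat.card_pos.ne').1 ?_
        rw [← R.card_eq_multiplicity, ← card_map_of_injective (centralizer ({(x : G)} : Set G)).subtype_injective]
        refine card_dvd_of_le ?_
        rintro _ ⟨v, hv, rfl⟩
        obtain ⟨i, hi⟩ := R.2 ⟨v, hv⟩
        exact ⟨coprime_of_pow hp ht htp (show (v : G) ^ t ^ i = 1 from
          congrArg (fun w : R => ((w : centralizer ({(x : G)} : Set G)) : G)) hi), v.2⟩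
    rintro _ ⟨x, rfl⟩ _ ⟨y, rfl⟩
    refine Nat.eq_of_factorization_eq Nat.card_pos.ne' Nat.card_pos.ne' fun t => ?_
    by_cases ht : t.Prime
    · rw [hv x t ht, hv y t ht]
      have h1 := (centralizer ({(x : G)} : Set G)).card_mul_index.trans
        (centralizer ({(y : G)} : Set G)).card_mul_index.symm
      rw [h x x.2.1 x.2.2, h y y.2.1 y.2.2] at h1
      rw [Nat.eq_of_mul_eq_mul_right (h y y.2.1 y.2.2 ▸ Nat.pos_of_ne_zero Subgroup.index_ne_zero_of_finite) h1]
    · rw [Nat.factorization_eq_zero_of_not_prime _ ht, Nat.factorization_eq_zero_of_not_prime _ ht]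
  · intro g hg
    by_cases hgc : g ∈ center G
    · obtain ⟨s, -, hs, hsp, y, ⟨ky, hky⟩, hyZ⟩ := htwo 0
      have hy : (orderOf y).Coprime p := coprime_of_pow hp hs hsp hky
      exact ⟨_, ⟨⟨y, hy, fun e => hyZ ⟨e, hy⟩⟩, rfl⟩, hg, center_le_centralizer _ hgc⟩
    · exact ⟨_, ⟨⟨g, hg, hgc⟩, rfl⟩, hg, mem_centralizer_singleton_iff.2 rfl⟩
  · rintro _ ⟨x, rfl⟩ a ha haZ y hy b hb
    have hyC : y ∈ centralizer ({(x : G)} : Set G) := by
      rw [heq x a ha haZ]; exact mem_centralizer_singleton_iff.2 hy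
    exact mem_centralizer_singleton_iff.1 (hcore x x.2.1 x.2.2 b hb.1 hb.2 hyC)
  · rintro _ ⟨x, rfl⟩ a ha haZ y hyo hy
    refine ⟨hyo, ?_⟩
    rw [heq x a ha haZ]
    exact mem_centralizer_singleton_iff.2 hy

/-- Only one prime `q ≠ p` has noncentral elements. -/
theorem one_prime {q : ℕ} (hp : p.Prime) [Fact q.Prime] (hqp : q ≠ p)
    (hall : ∀ t, NC p (regCenter G p) t → t = q) (P : Sylow p G) (Q : Sylow q G) :
    ∃ A : Subgroup G, A ≤ center G ∧
      Nat.card ↥((P : Subgroup G) ⊔ (Q : Subgroup G)) = Nat.card P * Nat.card Q ∧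
      ((P : Subgroup G) ⊔ (Q : Subgroup G)).Normal ∧
      ((P : Subgroup G) ⊔ (Q : Subgroup G)) ⊓ A = ⊥ ∧ ((P : Subgroup G) ⊔ (Q : Subgroup G)) ⊔ A = ⊤ := by
  have hq : q.Prime := Fact.out
  haveI := Fact.mk hp
  let A : Subgroup G := regCenter G (p * q)
  have hA : A ≤ center G := fun z hz => hz.1
  haveI : A.Normal := ⟨fun n hn g => by rw [mem_center_iff.1 (hA hn) g, mul_inv_cancel_right]; exact hn⟩
  have hcop : ∀ t : ℕ, t.Prime → t ∣ Nat.card A → t ≠ p ∧ t ≠ q := by
    intro t ht hd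
    haveI := Fact.mk ht
    obtain ⟨a, ha⟩ := exists_prime_orderOf_dvd_card' (G := A) t hd
    have h1 := a.2.2
    rw [orderOf_coe, ha, Nat.coprime_mul_iff_right] at h1
    exact ⟨fun e => by rw [e, Nat.coprime_self] at h1; exact hp.ne_one h1.1,
      fun e => by rw [e, Nat.coprime_self] at h1; exact hq.ne_one h1.2⟩
  have hidx : ∀ t : ℕ, t.Prime → t ∣ A.index → t = p ∨ t = q := by
    intro t ht hd
    by_contra! hne
    haveI := Fact.mk ht
    obtain ⟨T⟩ : Nonempty (Sylow t G) := inferInstance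
    refine T.not_dvd_index (hd.trans (index_dvd_of_le fun y hy => ?_))
    obtain ⟨k, hk⟩ := exists_pow_of_mem_sylow T hy
    have hyo := coprime_of_pow hp ht hne.1 hk
    refine ⟨?_, Nat.coprime_mul_iff_right.2 ⟨hyo, coprime_of_pow hq ht hne.2 hk⟩⟩
    by_contra hyc
    exact hne.2 (hall t ⟨ht, hne.1, y, ⟨k, hk⟩, fun hz => hyc hz.1⟩)
  obtain ⟨K, hK⟩ := exists_right_complement'_of_coprime (N := A) (Nat.coprime_of_dvd fun t ht h1 h2 => by
    rcases hidx t ht h2 with rfl | rfl
    · exact (hcop _ ht h1).1 rfl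
    · exact (hcop _ ht h1).2 rfl)
  haveI : K.Normal := ⟨fun n hn g => by
    obtain ⟨⟨⟨a, ha⟩, ⟨k, hk⟩⟩, rfl⟩ := hK.2 g
    show a * k * n * (a * k)⁻¹ ∈ K
    have h1 : k * n * k⁻¹ ∈ K := mul_mem (mul_mem hk hn) (inv_mem hk)
    have h2 : (k * n * k⁻¹) * a = a * (k * n * k⁻¹) := mem_center_iff.1 (hA ha) _
    have : a * k * n * (a * k)⁻¹ = k * n * k⁻¹ := by
      calc a * k * n * (a * k)⁻¹ = (a * (k * n * k⁻¹)) * a⁻¹ := by group
        _ = _ := by rw [← h2, mul_inv_cancel_right]
    rwa [this]⟩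
  have hKi : K.index = Nat.card A := hK.index_eq_card
  have hKc : Nat.card K = A.index := hK.symm.index_eq_card.symm
  have hle : ∀ {r : ℕ} [Fact r.Prime] (R : Sylow r G), (r = p ∨ r = q) → (R : Subgroup G) ≤ K := by
    intro r _ R hr y hy
    obtain ⟨k, hk⟩ := exists_pow_of_mem_sylow R hy
    refine Element.mem_of_coprime_index (Nat.Coprime.coprime_dvd_left (orderOf_dvd_of_pow_eq_one hk) ?_)
    rw [hKi]
    refine (((Fact.out : r.Prime).coprime_iff_not_dvd).2 fun hd => ?_).pow_left k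
    rcases hr with rfl | rfl
    · exact (hcop _ hp hd).1 rfl
    · exact (hcop _ hq hd).2 rfl
  have hPK := hle P (Or.inl rfl)
  have hQK := hle Q (Or.inr rfl)
  have hco : (Nat.card P).Coprime (Nat.card Q) := by
    rw [P.card_eq_multiplicity, Q.card_eq_multiplicity]
    exact ((Nat.coprime_primes hp hq).2 (Ne.symm hqp)).pow _ _
  have hKdvd : Nat.card K ∣ Nat.card P * Nat.card Q := by
    rw [Nat.dvd_iff_prime_pow_dvd_dvd]
    intro t k ht htk
    rcases Nat.eq_zero_or_pos k with rfl | hk0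
    · rw [pow_zero]; exact one_dvd _
    · have htd : t ^ k ∣ Nat.card G := htk.trans (card_subgroup_dvd_card K)
      rcases hidx t ht (hKc ▸ (dvd_pow_self t hk0.ne').trans htk) with rfl | rfl
      · refine dvd_mul_of_dvd_left ?_ _
        rw [P.card_eq_multiplicity]
        exact Nat.pow_dvd_pow _ ((hp.pow_dvd_iff_le_factorization Nat.card_pos.ne').1 htd)
      · refine dvd_mul_of_dvd_right ?_ _
        rw [Q.card_eq_multiplicity]
        exact Nat.pow_dvd_pow _ ((hq.pow_dvd_iff_le_factorization Nat.card_pos.ne').1 htd)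
  have hd : Nat.card P * Nat.card Q ∣ Nat.card ↥((P : Subgroup G) ⊔ (Q : Subgroup G)) :=
    hco.mul_dvd_of_dvd_of_dvd (card_dvd_of_le le_sup_left) (card_dvd_of_le le_sup_right)
  have hsup : (P : Subgroup G) ⊔ (Q : Subgroup G) = K :=
    eq_of_le_of_card_ge (sup_le hPK hQK) ((Nat.le_of_dvd (Nat.mul_pos Nat.card_pos Nat.card_pos) hKdvd).trans
      (Nat.le_of_dvd Nat.card_pos hd))
  refine ⟨A, hA, Nat.dvd_antisymm (hsup ▸ hKdvd) hd, hsup ▸ inferInstance, ?_, ?_⟩
  · rw [hsup, inf_comm]; exact hK.disjoint.eq_bot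
  · rw [hsup, sup_comm]; exact hK.sup_eq_top

theorem main (hp : p.Prime)
    (h2 : Set.ncard (Set.range fun x : {x : G // (orderOf x).Coprime p} =>
      (ConjClasses.mk (x : G)).carrier.ncard) = 2) :
    (∃ H : Subgroup G, IsMulCommutative H ∧ ¬ p ∣ Nat.card H ∧ ∃ k : ℕ, H.index = p ^ k) ∨
    (∃ (q : ℕ) (_ : Fact q.Prime) (P : Sylow p G) (Q : Sylow q G) (A : Subgroup G), q ≠ p ∧
        A ≤ Subgroup.center G ∧ Nat.card ↥((P : Subgroup G) ⊔ (Q : Subgroup G)) = Nat.card P * Nat.card Q ∧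
        ((P : Subgroup G) ⊔ (Q : Subgroup G)).Normal ∧
        ((P : Subgroup G) ⊔ (Q : Subgroup G)) ⊓ A = ⊥ ∧ ((P : Subgroup G) ⊔ (Q : Subgroup G)) ⊔ A = ⊤) := by
  classical
  haveI := Fact.mk hp
  have hsize : ∀ x : G, (ConjClasses.mk x).carrier.ncard = (centralizer ({x} : Set G)).index := fun x => by
    rw [← ClassSize.natCard_carrier, Nat.card_coe_set_eq]
  obtain ⟨a, b, hab, hr⟩ := Set.ncard_eq_two.1 h2
  have hval : ∀ x : G, (orderOf x).Coprime p →
      (centralizer ({x} : Set G)).index = a ∨ (centralizer ({x} : Set G)).index = b := fun x hx => by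
    have h : (ConjClasses.mk x).carrier.ncard ∈ ({a, b} : Set ℕ) := hr ▸ ⟨⟨x, hx⟩, rfl⟩
    rw [hsize] at h
    exact h
  have hone : (centralizer ({1} : Set G)).index = 1 := (ClassSize.index_centralizer_eq_one_iff 1).2 (one_mem _)
  obtain ⟨m, hm, hsz⟩ : ∃ m, (∃ x : G, (orderOf x).Coprime p ∧ x ∉ center G) ∧ TwoSizes p G m := by
    have key : ∀ c d : ℕ, c ≠ d → c = 1 →
        (∀ x : G, (orderOf x).Coprime p → (centralizer ({x} : Set G)).index = c ∨ (centralizer ({x} : Set G)).index = d) →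
        (∃ x : G, (orderOf x).Coprime p ∧ (centralizer ({x} : Set G)).index = d) →
        ∃ m, (∃ x : G, (orderOf x).Coprime p ∧ x ∉ center G) ∧ TwoSizes p G m := by
      rintro c d hcd rfl hcd' ⟨x, hx, hxd⟩
      refine ⟨d, ⟨x, hx, fun e => hcd ?_⟩, fun y hy hyc => ?_⟩
      · rw [← hxd, (ClassSize.index_centralizer_eq_one_iff x).2 e]
      · exact (hcd' y hy).resolve_left fun e => hyc ((ClassSize.index_centralizer_eq_one_iff y).1 e)
    have hmem : ∀ c ∈ ({a, b} : Set ℕ), ∃ x : G, (orderOf x).Coprime p ∧ (centralizer ({x} : Set G)).index = c := by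
      intro c hc
      obtain ⟨⟨x, hx⟩, hxc⟩ := hr ▸ hc
      exact ⟨x, hx, by rw [← hsize]; exact hxc⟩
    rcases hval 1 (by simp) with e | e
    · exact key a b hab (e.symm.trans hone) hval (hmem b (Or.inr rfl))
    · exact key b a hab.symm (e.symm.trans hone) (fun x hx => (hval x hx).symm) (hmem a (Or.inl rfl))
  by_cases htwo : ∀ q, ∃ t, t ≠ q ∧ NC p (regCenter G p) t
  · left
    obtain ⟨S, H⟩ := hsz.hyp hp htwo
    obtain ⟨A, hA, hidx⟩ := exists_pow_index _ rfl H
    refine ⟨A, ⟨⟨fun a b => Subtype.ext (H.comm A hA a a.2 b b.2).eq⟩⟩, H.coprime_card hA, _,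
      Nat.eq_prime_pow_of_unique_prime_dvd A.index_ne_zero_of_finite fun {t} ht htd => hidx t ht htd⟩
  · right
    push Not at htwo
    obtain ⟨q₀, hq₀⟩ := htwo
    obtain ⟨q, hq⟩ : ∃ q, NC p (regCenter G p) q := by
      obtain ⟨x, hx, hxc⟩ := hm
      by_contra! hno
      refine hxc (mem_of_primePow fun y hy t k ht hk => ?_)
      by_contra hyc
      refine hno t ⟨ht, fun e => ?_, y, ⟨k, orderOf_dvd_iff_pow_eq_one.1 hk.dvd⟩, fun h => hyc h.1⟩
      subst e
      have hyo : (orderOf y).Coprime t := hx.coprime_dvd_left (orderOf_dvd_of_mem_zpowers hy)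
      rcases Nat.eq_zero_or_pos k with h0 | h0
      · exact hyc (orderOf_eq_one_iff.1 (by rw [hk, h0, pow_zero]) ▸ one_mem _)
      · rw [hk, Nat.coprime_pow_left_iff h0, Nat.coprime_self] at hyo
        exact ht.ne_one hyo
    have hall : ∀ t, NC p (regCenter G p) t → t = q := fun t ht => by
      have h1 := fun hne => hq₀ t hne ht
      have h2 := fun hne => hq₀ q hne hq
      exact (not_not.1 fun e => h1 e).trans (not_not.1 fun e => h2 e).symm
    haveI := Fact.mk hq.1
    obtain ⟨P⟩ : Nonempty (Sylow p G) := inferInstance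
    obtain ⟨Q⟩ : Nonempty (Sylow q G) := inferInstance
    obtain ⟨A, hA⟩ := one_prime hp hq.2.1 hall P Q
    exact ⟨q, ⟨hq.1⟩, P, Q, A, hq.2.1, hA⟩

end Cfsg.Agent.TwoRegSizes
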